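import Groth.Agent.Neron.K531.Defs
import Groth.Agent.S0426
import Mathlib.AlgebraicGeometry.Morphisms.WeaklyEtale
import Mathlib.AlgebraicGeometry.Morphisms.UniversallyOpen

/-!
# The fraction field of a weakly étale domain over an integral scheme

`exists_ringHom_separable`: `V` integral, `Spec R ⟶ V` weakly étale, `R` a domain with fraction field `F`. Then
`Spec F ⟶ V` factors through the generic point of `V` and `F` is a separable algebraic extension of the function
field of `V`.
-/

set_option autoImplicit false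

universe u

open CategoryTheory CategoryTheory.Limits AlgebraicGeometry TopologicalSpace Opposite
open K531.Defs

namespace K587.WEField

theorem flat_fromSpecStalk (X : Scheme.{u}) (x : X) : Flat (X.fromSpecStalk x) := by
  obtain ⟨N, hN, hxN, -⟩ := exists_isAffineOpen_mem_and_subset (X := X) (U := ⊤) (x := x) trivial
  rw [← hN.fromSpecStalk_eq_fromSpecStalk hxN, IsAffineOpen.fromSpecStalk]
  have h1 : Flat (Spec.map (X.presheaf.germ N x hxN)) := by
    rw [Flat.SpecMap_iff]
    let _ : Algebra Γ(X, N) (X.presheaf.stalk x) := (X.presheaf.germ N x hxN).hom.toAlgebra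
    have := hN.isLocalization_stalk ⟨x, hxN⟩
    change Module.Flat Γ(X, N) (X.presheaf.stalk x)
    exact IsLocalization.flat _ (hN.primeIdealOf ⟨x, hxN⟩).asIdeal.primeCompl
  infer_instance

theorem weaklyEtale_fromSpecStalk (X : Scheme.{u}) (x : X) : WeaklyEtale (X.fromSpecStalk x) where
  flat := flat_fromSpecStalk X x
  flat_diagonal := inferInstance

set_option backward.isDefEq.respectTransparency.types false in
theorem weaklyEtale_Spec_iff (R S : Type u) [CommRing R] [CommRing S] [Algebra R S] :
    WeaklyEtale (Spec.map (CommRingCat.ofHom (algebraMap R S))) ↔ Algebra.WeaklyEtale R S := by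
  rw [weaklyEtale_iff, Algebra.weaklyEtale_iff, diagonal_SpecMap,
    MorphismProperty.cancel_right_of_respectsIso @Flat, HasRingHomProperty.Spec_iff (P := @Flat),
    HasRingHomProperty.Spec_iff (P := @Flat)]
  simp only [CommRingCat.hom_ofHom, RingHom.flat_algebraMap_iff]

/-- The spectrum of a field of fractions. -/
theorem weaklyEtale_frac (R F : Type u) [CommRing R] [IsDomain R] [Field F] [Algebra R F] [IsFractionRing R F] :
    WeaklyEtale (sp R F) := by
  have hF : Module.Flat R F := IsLocalization.flat F (nonZeroDivisors R)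
  have h1 : Flat (sp R F) := by
    rw [Flat.SpecMap_iff]
    exact (RingHom.flat_algebraMap_iff).mpr hF
  have hm : Mono (sp R F) := by
    have : IsPreimmersion (sp R F) := IsPreimmersion.of_isLocalization (nonZeroDivisors R)
    infer_instance
  exact ⟨h1, inferInstance⟩

/-- A flat morphism from the spectrum of a domain to an integral scheme maps the generic point to the generic
point. -/
theorem apply_generic {V : Scheme.{u}} [IsIntegral V] (R F : Type u) [CommRing R] [IsDomain R] [Field F]
    [Algebra R F] [IsFractionRing R F] (r : Spec (CommRingCat.of R) ⟶ V) [Flat r] (y : Spec (CommRingCat.of F)) :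
    (sp R F ≫ r) y = genericPoint V := by
  set z : Spec (CommRingCat.of R) := sp R F y with hz
  have hgen : genericPoint V ⤳ r z := (genericPoint_spec V).specializes trivial
  obtain ⟨w, hw, hwz⟩ := Flat.generalizingMap r hgen
  have hzb : z.asIdeal = ⊥ := by
    have h1 : z.asIdeal = Ideal.comap (algebraMap R F) y.asIdeal := rfl
    have h2 : y.asIdeal = ⊥ := (Ideal.eq_bot_or_top y.asIdeal).resolve_right y.2.ne_top
    rw [h1, h2]
    exact (RingHom.ker_eq_comap_bot (algebraMap R F)).symm.trans
      ((RingHom.injective_iff_ker_eq_bot _).mp (IsFractionRing.injective R F))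
  have hwb : w = z := by
    have h3 : w.asIdeal ≤ z.asIdeal := (PrimeSpectrum.le_iff_specializes w z).mpr hw
    apply PrimeSpectrum.ext
    exact le_antisymm h3 (hzb ▸ bot_le)
  rw [Scheme.Hom.comp_apply, ← hz, ← hwb, hwz]

theorem exists_factor {V : Scheme.{u}} {F : Type u} [Field F] (t : Spec (CommRingCat.of F) ⟶ V) :
    ∀ x : V, t (IsLocalRing.closedPoint F) = x →
      ∃ ρ : V.presheaf.stalk x ⟶ CommRingCat.of F, Spec.map ρ ≫ V.fromSpecStalk x = t := by
  rintro _ rfl
  exact ⟨Scheme.stalkClosedPointTo t, Scheme.Spec_stalkClosedPointTo_fromSpecStalk t⟩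

/-- (PG3) -/
theorem exists_ringHom_separable {V : Scheme.{u}} [IsIntegral V] {L : Type u} [Field L] (η : Spec (CommRingCat.of L) ⟶ V)
    (hη : ∃ e : Spec (CommRingCat.of L) ≅ Spec V.functionField, η = e.hom ≫ V.fromSpecStalk (genericPoint V))
    (R F : Type u) [CommRing R] [IsDomain R] [Field F] [Algebra R F] [IsFractionRing R F]
    (r : Spec (CommRingCat.of R) ⟶ V) [WeaklyEtale r] :
    ∃ ρ : L →+* F, Spec.map (CommRingCat.ofHom ρ) ≫ η = sp R F ≫ r ∧ (letI := ρ.toAlgebra; Algebra.IsSeparable L F) := by
  obtain ⟨e, he⟩ := hη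
  obtain ⟨ρ₀, hρ₀⟩ := exists_factor (sp R F ≫ r) (genericPoint V) (apply_generic R F r _)
  let σ : CommRingCat.of L ⟶ CommRingCat.of F := Spec.preimage (Spec.map ρ₀ ≫ e.inv)
  have hσ : Spec.map σ = Spec.map ρ₀ ≫ e.inv := Spec.map_preimage _
  have h1 : Spec.map σ ≫ η = sp R F ≫ r := by
    rw [hσ, he, Category.assoc, Iso.inv_hom_id_assoc, hρ₀]
  refine ⟨σ.hom, h1, ?_⟩
  have hwf := weaklyEtale_frac R F
  have hws := weaklyEtale_fromSpecStalk V (genericPoint V)
  have hwη : WeaklyEtale η := by
    rw [he]
    exact MorphismProperty.RespectsIso.precomp _ e.hom _ hws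
  have hwc : WeaklyEtale (Spec.map σ ≫ η) := by
    rw [h1]
    infer_instance
  have hw : WeaklyEtale (Spec.map σ) := WeaklyEtale.of_comp _ η
  let : Algebra L F := σ.hom.toAlgebra
  have hWE : Algebra.WeaklyEtale L F := (weaklyEtale_Spec_iff L F).mp hw
  exact Groth.Agent.S0426.result

end K587.WEField
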