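import Groth.Agent.Neron.K531.Defs
import Mathlib.RingTheory.Etale.Locus
import Mathlib.AlgebraicGeometry.Morphisms.Etale
import Mathlib.RingTheory.Etale.Field

/-!
# A finite separable extension of the function field is the function field of an étale scheme

`exists_etale_base`: `S` integral noetherian, `L / K(S)` finite separable. Then there are an integral noetherian
étale `S`-scheme `V` and an isomorphism of the function field of `V` with `L` over `K(S)`.
-/

set_option autoImplicit false

universe u

open CategoryTheory CategoryTheory.Limits AlgebraicGeometry TopologicalSpace Opposite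
open K531.Defs

namespace K587.EtBase

/-- The algebra: `A` a noetherian domain, `K` its fraction field, `L / K` finite separable. There is an étale
`A`-algebra `B`, a domain with fraction field `L`. -/
theorem exists_alg (A : Type u) [CommRing A] [IsDomain A] [IsNoetherianRing A] (K L : Type u) [Field K] [Field L]
    [Algebra A K] [IsFractionRing A K] [Algebra K L] [FiniteDimensional K L] [Algebra.IsSeparable K L]
    [Algebra A L] [IsScalarTower A K L] :
    ∃ (B : Type u) (_ : CommRing B) (_ : Algebra A B) (_ : Algebra B L), IsScalarTower A B L ∧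
      IsDomain B ∧ Algebra.Etale A B ∧ IsFractionRing B L := by
  classical
  have hAK : Function.Injective (algebraMap A K) := IsFractionRing.injective A K
  have hAL : Function.Injective (algebraMap A L) := by
    rw [IsScalarTower.algebraMap_eq A K L]
    exact (algebraMap K L).injective.comp hAK
  let b := Module.finBasis K L
  let B0 : Subalgebra A L := Algebra.adjoin A (Set.range b)
  have hfg : B0.FG := Subalgebra.fg_adjoin_finset (R := A) (Finset.univ.image b) |> fun h => by
    simpa using h
  have hft : Algebra.FiniteType A B0 := (Subalgebra.fg_iff_finiteType _).mp hfg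
  have hfp : Algebra.FinitePresentation A B0 := (Algebra.FinitePresentation.of_finiteType).mp hft
  -- every element of `L` is `x / s` with `x ∈ B0`, `s ∈ A` nonzero
  have hden : ∀ z : L, ∃ (s : A) (x : B0), s ≠ 0 ∧ algebraMap A L s * z = (x : L) := by
    intro z
    have hz := b.sum_repr z
    obtain ⟨s, hs⟩ := IsLocalization.exist_integer_multiples (nonZeroDivisors A) Finset.univ (fun i => b.repr z i)
    choose c hc using fun i => hs i (Finset.mem_univ i)
    refine ⟨s, ⟨∑ i, c i • b i, ?_⟩, nonZeroDivisors.ne_zero s.2, ?_⟩
    · exact Subalgebra.sum_mem _ fun i _ => Subalgebra.smul_mem _ (Algebra.subset_adjoin (Set.mem_range_self i)) _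
    · rw [← hz, Finset.mul_sum]
      change _ = ∑ i, c i • b i
      refine Finset.sum_congr rfl fun i _ => ?_
      have h1 := hc i
      rw [Algebra.smul_def] at h1
      rw [Algebra.smul_def, Algebra.smul_def, ← mul_assoc, IsScalarTower.algebraMap_apply A K L,
        IsScalarTower.algebraMap_apply A K L (c i), ← map_mul, h1]
  have hB0inj : Function.Injective (algebraMap B0 L) := Subtype.coe_injective
  have hFrac0 : IsFractionRing B0 L := by
    refine ⟨?_, ?_, ?_⟩
    · intro y
      exact (Ne.isUnit fun h => nonZeroDivisors.ne_zero y.2 (hB0inj (by rw [h, map_zero])))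
    · intro z
      obtain ⟨s, x, hs, hx⟩ := hden z
      have hs' : algebraMap A B0 s ≠ 0 := fun h => hs (hAL (by
        rw [IsScalarTower.algebraMap_apply A B0 L, h, map_zero, map_zero]))
      refine ⟨(x, ⟨algebraMap A B0 s, mem_nonZeroDivisors_of_ne_zero hs'⟩), ?_⟩
      change z * algebraMap B0 L (algebraMap A B0 s) = (x : L)
      rw [← IsScalarTower.algebraMap_apply A B0 L, mul_comm, hx]
    · intro x y hxy
      exact ⟨1, by rw [hB0inj hxy]⟩
  -- étale at the zero ideal
  have hbot : (⊥ : Ideal B0).IsPrime := Ideal.isPrime_bot
  have hFE : Algebra.FormallyEtale A L := by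
    have : Algebra.FormallyEtale A K := Algebra.FormallyEtale.of_isLocalization (nonZeroDivisors A)
    have : Algebra.FormallyEtale K L := Algebra.FormallyEtale.of_isSeparable K L
    exact Algebra.FormallyEtale.comp A K L
  have hloc : IsLocalization (⊥ : Ideal B0).primeCompl L := by
    have h : (⊥ : Ideal B0).primeCompl = nonZeroDivisors B0 := by
      ext x
      rw [mem_nonZeroDivisors_iff_ne_zero]
      exact Iff.rfl
    rw [h]
    exact hFrac0
  have hat : Algebra.IsEtaleAt A (⊥ : Ideal B0) := by
    let e : L ≃ₐ[B0] Localization.AtPrime (⊥ : Ideal B0) :=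
      IsLocalization.algEquiv (⊥ : Ideal B0).primeCompl L (Localization.AtPrime (⊥ : Ideal B0))
    exact Algebra.FormallyEtale.of_equiv (e.restrictScalars A)
  obtain ⟨f, hf, het⟩ := Algebra.exists_etale_of_isEtaleAt (R := A) (⊥ : Ideal B0)
  have hf0 : f ≠ 0 := fun h => hf (by rw [h]; exact Ideal.zero_mem _)
  have hfL : IsUnit (algebraMap B0 L f) := Ne.isUnit fun h => hf0 (hB0inj (by rw [h, map_zero]))
  let : Algebra (Localization.Away f) L := (IsLocalization.Away.lift f hfL).toAlgebra
  have ht0 : IsScalarTower B0 (Localization.Away f) L :=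
    IsScalarTower.of_algebraMap_eq fun x => (IsLocalization.Away.lift_eq f hfL x).symm
  have hle : Submonoid.powers f ≤ nonZeroDivisors B0 := powers_le_nonZeroDivisors_of_noZeroDivisors hf0
  refine ⟨Localization.Away f, inferInstance, inferInstance, inferInstance, ?_, ?_, het, ?_⟩
  · refine IsScalarTower.of_algebraMap_eq fun x => ?_
    rw [IsScalarTower.algebraMap_apply A B0 (Localization.Away f),
      ← IsScalarTower.algebraMap_apply B0 (Localization.Away f) L, ← IsScalarTower.algebraMap_apply A B0 L]
  · exact IsLocalization.isDomain_of_le_nonZeroDivisors _ hle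
  · exact IsFractionRing.isFractionRing_of_isDomain_of_isLocalization (Submonoid.powers f) (Localization.Away f) L

/-- The function field of `Spec R` and any other fraction field of `R`. -/
theorem exists_iso_functionField (R : CommRingCat.{u}) [IsDomain R] (L : Type u) [Field L] [Algebra R L]
    [IsFractionRing R L] :
    ∃ e : Spec (CommRingCat.of L) ≅ Spec (Spec R).functionField,
      Spec.map (CommRingCat.ofHom (algebraMap R L)) = e.hom ≫ (Spec R).fromSpecStalk (genericPoint (Spec R)) := by
  let e : L ≃ₐ[R] (Spec R).functionField := IsLocalization.algEquiv (nonZeroDivisors R) L (Spec R).functionField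
  let ι : CommRingCat.of L ≅ (Spec R).functionField := e.toRingEquiv.toCommRingCatIso
  refine ⟨Scheme.Spec.mapIso ι.symm.op, ?_⟩
  have h2 : CommRingCat.ofHom (algebraMap R L) = StructureSheaf.toStalk R (genericPoint (Spec R)) ≫ ι.inv := by
    ext x
    exact (e.symm.commutes x).symm
  have h3 : (Spec R).fromSpecStalk (genericPoint (Spec R)) = Spec.map (StructureSheaf.toStalk R _) :=
    Spec.fromSpecStalk_eq' R _
  rw [h3]
  exact (congrArg Spec.map h2).trans (Spec.map_comp _ _)

set_option maxHeartbeats 400000 in
/-- (SP1) `S` integral noetherian, `L / K(S)` finite separable: `L` is the function field of an integral noetherian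
étale `S`-scheme. -/
theorem exists_etale_base {S : Scheme.{u}} [IsIntegral S] [IsNoetherian S]
    (L : Type u) [Field L] [Algebra S.functionField L] [FiniteDimensional S.functionField L]
    [Algebra.IsSeparable S.functionField L] :
    ∃ (V : Scheme.{u}) (_ : IsIntegral V) (_ : IsNoetherian V) (v : V ⟶ S) (_ : Etale v)
      (η : Spec (CommRingCat.of L) ⟶ V), η ≫ v = sp S.functionField L ≫ S.fromSpecStalk (genericPoint S) ∧
      ∃ e : Spec (CommRingCat.of L) ≅ Spec V.functionField, η = e.hom ≫ V.fromSpecStalk (genericPoint V) := by
  obtain ⟨_, ⟨U, hU, rfl⟩, hxU, -⟩ :=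
    S.isBasis_affineOpens.exists_subset_of_mem_open (Set.mem_univ (genericPoint S)) isOpen_univ
  have hne : Nonempty U := ⟨⟨_, hxU⟩⟩
  replace hU : IsAffineOpen U := hU
  have hfr : IsFractionRing Γ(S, U) S.functionField := functionField_isFractionRing_of_isAffineOpen S U hU
  have hN : IsNoetherianRing Γ(S, U) := IsLocallyNoetherian.component_noetherian ⟨U, hU⟩
  let : Algebra Γ(S, U) L := ((algebraMap S.functionField L).comp (algebraMap Γ(S, U) S.functionField)).toAlgebra
  have htow : IsScalarTower Γ(S, U) S.functionField L := IsScalarTower.of_algebraMap_eq fun _ => rfl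
  obtain ⟨B, _, _, _, hABL, hB, het, hfrB⟩ := exists_alg Γ(S, U) S.functionField L
  have hBN : IsNoetherianRing B := Algebra.FiniteType.isNoetherianRing Γ(S, U) B
  have hBd : IsDomain (CommRingCat.of B) := hB
  have hBN' : IsNoetherianRing (CommRingCat.of B) := hBN
  let ψ : Γ(S, U) ⟶ CommRingCat.of B := CommRingCat.ofHom (algebraMap Γ(S, U) B)
  have hE : Etale (Spec.map ψ) := by
    rw [HasRingHomProperty.Spec_iff (P := @Etale)]
    exact (RingHom.etale_algebraMap).mpr het
  have hEc : Etale (Spec.map ψ ≫ hU.fromSpec) := inferInstance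
  refine ⟨Spec (.of B), inferInstance, inferInstance, Spec.map ψ ≫ hU.fromSpec, hEc, sp B L, ?_, ?_⟩
  · rw [← hU.fromSpecStalk_eq_fromSpecStalk hxU]
    change sp B L ≫ Spec.map ψ ≫ hU.fromSpec = sp S.functionField L ≫ Spec.map (S.presheaf.germ _ _ hxU) ≫ hU.fromSpec
    rw [← Category.assoc, ← Category.assoc]
    congr 1
    have h1 : ψ ≫ CommRingCat.ofHom (algebraMap B L) =
        (S.presheaf.germ U (genericPoint S) hxU) ≫ CommRingCat.ofHom (algebraMap S.functionField L) := by
      ext x
      change algebraMap B L (algebraMap Γ(S, U) B x) =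
        algebraMap S.functionField L (algebraMap Γ(S, U) S.functionField x)
      rw [← IsScalarTower.algebraMap_apply Γ(S, U) B L]
      rfl
    exact (Spec.map_comp _ _).symm.trans ((congrArg Spec.map h1).trans (Spec.map_comp _ _))
  · exact exists_iso_functionField (CommRingCat.of B) L

end K587.EtBase
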